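import Groth.Agent.HenselBranchLib.IndEtLocal
import Groth.Agent.HenselLib.EtaleLift
import Mathlib.RingTheory.Unramified.Finite
import Mathlib.Algebra.Category.Ring.FinitePresentation

/-! Lifting ind-étale algebras along a quotient. -/

set_option autoImplicit false
set_option linter.style.haveILetI false
set_option maxHeartbeats 800000
set_option backward.isDefEq.respectTransparency false
set_option backward.defeqAttrib.useBackward true
universe u

open CategoryTheory CategoryTheory.Limits TensorProduct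

namespace Groth.Agent.IndEtQuotLib

open HenselBranchLib

theorem exists_equalizing {A B T S : Type u} [CommRing A] [CommRing B] [CommRing T] [CommRing S] [Algebra A B]
    [Algebra A T] [Algebra A S] [Algebra.Etale A B] (f g : B →ₐ[A] T) (h : T →ₐ[A] S) (hfg : h.comp f = h.comp g) :
    ∃ c : T, h c = 1 ∧ ∀ x, c * (f x - g x) = 0 := by
  let L := Algebra.TensorProduct.lift f g fun _ _ => Commute.all _ _
  let t := Algebra.FormallyUnramified.elem A B
  have key : h.comp L = (h.comp f).comp (Algebra.TensorProduct.lmul' A (S := B)) :=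
    Algebra.TensorProduct.ext' fun a b => by
      have := AlgHom.congr_fun hfg b
      simp only [AlgHom.comp_apply, L, Algebra.TensorProduct.lift_tmul, Algebra.TensorProduct.lmul'_apply_tmul, map_mul] at this ⊢
      rw [this]
  refine ⟨L t, ?_, fun x => ?_⟩
  · rw [← AlgHom.comp_apply, key, AlgHom.comp_apply, Algebra.FormallyUnramified.lmul_elem, map_one]
  · have h0 := congrArg L (Algebra.FormallyUnramified.one_tmul_sub_tmul_one_mul_elem (R := A) (S := B) x)
    rw [map_mul, map_sub, map_zero, Algebra.TensorProduct.lift_tmul, Algebra.TensorProduct.lift_tmul, map_one, map_one,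
      one_mul, mul_one] at h0
    linear_combination (-1 : T) * h0

variable {A Cb : Type u} [CommRing A] [CommRing Cb] [Algebra A Cb]

theorem isFiltered_etObj : IsFiltered (EtObj A Cb) := by
  haveI : Nonempty (EtObj A Cb) := ⟨(exists_obj (Algebra.ofId A Cb)).choose⟩
  haveI : IsFilteredOrEmpty (EtObj A Cb) := by
    refine ⟨fun i j => ?_, fun i j f g => ?_⟩
    · haveI := i.etale_U
      haveI := j.etale_U
      haveI : Algebra.Etale A (i.U ⊗[A] j.U) := Algebra.Etale.comp A i.U (i.U ⊗[A] j.U)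
      obtain ⟨k, e, he⟩ := exists_obj (Algebra.TensorProduct.lift i.hom j.hom fun _ _ => Commute.all _ _)
      refine ⟨k, ⟨e.toAlgHom.comp Algebra.TensorProduct.includeLeft, ?_⟩,
        ⟨e.toAlgHom.comp Algebra.TensorProduct.includeRight, ?_⟩, trivial⟩
      · rw [← AlgHom.comp_assoc, he]; ext x; simp
      · rw [← AlgHom.comp_assoc, he]; ext x; simp
    · haveI := j.etale_U
      haveI := i.etale_U
      obtain ⟨b, hb, hbx⟩ := exists_equalizing f.1 g.1 j.hom (f.2.trans g.2.symm)
      haveI : Algebra.Etale A (Localization.Away b) := Algebra.Etale.comp A j.U (Localization.Away b)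
      have hbu : IsUnit (j.hom b) := by rw [hb]; exact isUnit_one
      obtain ⟨k, e, he⟩ := exists_obj (IsLocalization.Away.liftAlgHom b (f := j.hom) hbu (S := Localization.Away b))
      refine ⟨k, ⟨e.toAlgHom.comp (IsScalarTower.toAlgHom A j.U (Localization.Away b)), ?_⟩, Subtype.ext (AlgHom.ext fun x => ?_)⟩
      · rw [← AlgHom.comp_assoc, he]; ext x; simp
      · show e (algebraMap j.U (Localization.Away b) (f.1 x)) = e (algebraMap j.U (Localization.Away b) (g.1 x))
        congr 1
        rw [← sub_eq_zero, ← map_sub, IsLocalization.map_eq_zero_iff (Submonoid.powers b)]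
        exact ⟨⟨b, Submonoid.mem_powers b⟩, hbx x⟩
  exact {}

/-- An étale algebra with a map to a colimit factors through a stage. -/
theorem exists_factor {R L : Type u} [CommRing R] [CommRing L] [Algebra R L] {J : Type u} [SmallCategory J] [IsFiltered J]
    (D : J ⥤ CommRingCat.{u}) (t : (Functor.const J).obj (CommRingCat.of R) ⟶ D)
    (s : D ⟶ (Functor.const J).obj (CommRingCat.of L)) (hs : IsColimit (Cocone.mk _ s))
    (hts : ∀ j, t.app j ≫ s.app j = CommRingCat.ofHom (algebraMap R L)) {V : Type u} [CommRing V] [Algebra R V]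
    [Algebra.Etale R V] (π : V →ₐ[R] L) :
    ∃ (j : J) (ψ : V →+* D.obj j), (∀ v, (s.app j).hom (ψ v) = π v) ∧
      ∀ r, ψ (algebraMap R V r) = (t.app j).hom r := by
  obtain ⟨j, g', h1, h2⟩ := RingHom.EssFiniteType.exists_eq_comp_ι_app_of_isColimit (CommRingCat.of R) D t
    (CommRingCat.ofHom (algebraMap R V)) (Cocone.mk _ s) hs (RingHom.finitePresentation_algebraMap.2 inferInstance)
    (CommRingCat.ofHom π.toRingHom) fun i => by
      rw [show t.app i ≫ s.app i = _ from hts i]
      ext r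
      exact π.commutes r
  exact ⟨j, g'.hom, fun v => (ConcreteCategory.congr_hom h2 v).symm, fun r => ConcreteCategory.congr_hom h1 r⟩

variable (I : Ideal A) [Algebra (A ⧸ I) Cb] [IsScalarTower A (A ⧸ I) Cb]

/-- Elements of the ideal are detected in an étale refinement. -/
theorem exists_refine (h : EtPBC.IsIndEtale (A ⧸ I) Cb) (i : EtObj A Cb) (x : i.U) (hx : i.hom x = 0) :
    ∃ (k : EtObj A Cb) (f : i ⟶ k), f.1 x ∈ I.map (algebraMap A k.U) := by
  obtain ⟨J, _, _, D, t, s, hs, hts⟩ := (IndEtLib.isIndEtale_iff (A ⧸ I) Cb).1 h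
  haveI := i.etale_U
  let V := (A ⧸ I) ⊗[A] i.U
  let πV : V →ₐ[A ⧸ I] Cb := Algebra.TensorProduct.lift (Algebra.ofId (A ⧸ I) Cb) i.hom fun _ _ => Commute.all _ _
  have hπV : ∀ u, πV ((1 : A ⧸ I) ⊗ₜ[A] u) = i.hom u := fun u =>
    (Algebra.TensorProduct.lift_tmul _ _ _ _ _).trans (by rw [map_one, one_mul])
  obtain ⟨j₀, ψ₀, hψ₀, hψ₀t⟩ := exists_factor D t s hs (fun j => (hts j).2) πV
  obtain ⟨j, w, w', hww⟩ := (Types.FilteredColimit.isColimit_eq_iff _ (isColimitOfPreserves (forget CommRingCat) hs)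
    (xi := ψ₀ ((1 : A ⧸ I) ⊗ₜ x)) (j := j₀) (xj := (0 : D.obj j₀))).1 (by
      show (s.app j₀).hom (ψ₀ _) = (s.app j₀).hom 0
      rw [hψ₀, map_zero, hπV]
      exact hx)
  let Q := D.obj j
  letI : Algebra (A ⧸ I) Q := (t.app j).hom.toAlgebra
  letI : Algebra A Q := ((t.app j).hom.comp (Ideal.Quotient.mk I)).toAlgebra
  haveI : IsScalarTower A (A ⧸ I) Q := IsScalarTower.of_algebraMap_eq fun _ => rfl
  haveI : Algebra.Etale (A ⧸ I) Q := (hts j).1
  let θ : i.U →ₐ[A] Q :=
    { ((D.map w).hom.comp ψ₀).comp (Algebra.TensorProduct.includeRight : i.U →ₐ[A] V).toRingHom with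
      commutes' := fun a => by
        show (D.map w).hom (ψ₀ ((Algebra.TensorProduct.includeRight : i.U →ₐ[A] V) (algebraMap A i.U a))) = _
        rw [AlgHom.commutes, IsScalarTower.algebraMap_apply A (A ⧸ I) V, hψ₀t]
        exact (ConcreteCategory.congr_hom (t.naturality w) (Ideal.Quotient.mk I a)).symm }
  have hθx : θ x = 0 := hww.trans (map_zero (D.map w').hom)
  let sQ : Q →ₐ[A] Cb :=
    { (s.app j).hom with
      commutes' := fun a => (ConcreteCategory.congr_hom (hts j).2 (Ideal.Quotient.mk I a)).trans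
        (IsScalarTower.algebraMap_apply A (A ⧸ I) Cb a).symm }
  have hsθ : ∀ u, sQ (θ u) = i.hom u := fun u => by
    show (s.app j).hom ((D.map w).hom (ψ₀ ((1 : A ⧸ I) ⊗ₜ[A] u))) = _
    rw [show (s.app j).hom ((D.map w).hom (ψ₀ ((1 : A ⧸ I) ⊗ₜ[A] u))) = (s.app j₀).hom (ψ₀ ((1 : A ⧸ I) ⊗ₜ[A] u)) from
      ConcreteCategory.congr_hom (s.naturality w) _, hψ₀, hπV]
  obtain ⟨W, _, _, _, φ, hφ, hker⟩ := HenselLib.exists_etale_lift (A := A) I Q
  haveI : Algebra.Etale A (i.U ⊗[A] W) := Algebra.Etale.comp A i.U (i.U ⊗[A] W)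
  let T := i.U ⊗[A] W
  let K := I.map (algebraMap A T)
  let hT : T →ₐ[A] Q := Algebra.TensorProduct.lift θ φ fun _ _ => Commute.all _ _
  let hb : (T ⧸ K) →ₐ[A] Q := Ideal.Quotient.liftₐ K hT fun a ha => by
    have h2 : K ≤ RingHom.ker hT := Ideal.map_le_iff_le_comap.2 fun a ha => by
      show hT (algebraMap A T a) = 0
      rw [AlgHom.commutes]
      show (t.app j).hom (Ideal.Quotient.mk I a) = 0
      rw [Ideal.Quotient.eq_zero_iff_mem.2 ha, map_zero]
    exact h2 ha
  let mkT : T →ₐ[A] T ⧸ K := Ideal.Quotient.mkₐ A K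
  have hkerφ : ∀ z, φ z = 0 → mkT ((Algebra.TensorProduct.includeRight : W →ₐ[A] T) z) = 0 := fun z hz => by
    refine Ideal.Quotient.eq_zero_iff_mem.2 ?_
    have h1 : z ∈ I.map (algebraMap A W) := hker ▸ hz
    have h2 := Ideal.mem_map_of_mem (Algebra.TensorProduct.includeRight : W →ₐ[A] T).toRingHom h1
    rw [Ideal.map_map, show (Algebra.TensorProduct.includeRight : W →ₐ[A] T).toRingHom.comp (algebraMap A W) = algebraMap A T from
      (Algebra.TensorProduct.includeRight : W →ₐ[A] T).comp_algebraMap] at h2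
    exact h2
  let σ : Q →+* T ⧸ K := RingHom.liftOfSurjective φ.toRingHom hφ
    ⟨(mkT.comp (Algebra.TensorProduct.includeRight : W →ₐ[A] T)).toRingHom, fun z hz => hkerφ z hz⟩
  have hσ : ∀ z, σ (φ z) = mkT ((1 : i.U) ⊗ₜ z) := fun z => RingHom.liftOfSurjective_comp_apply φ.toRingHom hφ _ z
  let g : i.U →ₐ[A] T ⧸ K :=
    { σ.comp θ.toRingHom with
      commutes' := fun a => by
        show σ (θ (algebraMap A i.U a)) = _
        rw [AlgHom.commutes, ← φ.commutes a, hσ,
          show (1 : i.U) ⊗ₜ[A] algebraMap A W a = algebraMap A T a from (Algebra.TensorProduct.includeRight : W →ₐ[A] T).commutes a]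
        exact mkT.commutes a }
  obtain ⟨c, hc, hcx⟩ := exists_equalizing (mkT.comp (Algebra.TensorProduct.includeLeft : i.U →ₐ[A] T)) g hb (by
    refine AlgHom.ext fun u => ?_
    show hT (u ⊗ₜ 1) = hb (σ (θ u))
    obtain ⟨z, hz⟩ := hφ (θ u)
    rw [← hz, hσ]
    show hT (u ⊗ₜ 1) = hT ((1 : i.U) ⊗ₜ z)
    rw [Algebra.TensorProduct.lift_tmul, Algebra.TensorProduct.lift_tmul, map_one, map_one, mul_one, one_mul, hz])
  obtain ⟨c₀, rfl⟩ := Ideal.Quotient.mk_surjective c
  have hc₀ : sQ.comp hT c₀ = 1 := by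
    show sQ (hT c₀) = 1
    rw [show hT c₀ = 1 from hc, map_one]
  have hu : IsUnit (sQ.comp hT c₀) := by rw [hc₀]; exact isUnit_one
  haveI : Algebra.Etale A (Localization.Away c₀) := Algebra.Etale.comp A T (Localization.Away c₀)
  obtain ⟨k, e, he⟩ := exists_obj (IsLocalization.Away.liftAlgHom c₀ (f := sQ.comp hT) hu (S := Localization.Away c₀))
  refine ⟨k, ⟨(e.toAlgHom.comp (IsScalarTower.toAlgHom A T (Localization.Away c₀))).comp Algebra.TensorProduct.includeLeft, ?_⟩, ?_⟩
  · refine AlgHom.ext fun u => ?_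
    show k.hom (e (algebraMap T (Localization.Away c₀) (u ⊗ₜ 1))) = _
    rw [show k.hom (e (algebraMap T (Localization.Away c₀) (u ⊗ₜ[A] (1 : W)))) =
      IsLocalization.Away.liftAlgHom c₀ (f := sQ.comp hT) hu (algebraMap T (Localization.Away c₀) (u ⊗ₜ[A] (1 : W))) from AlgHom.congr_fun he _,
      show IsLocalization.Away.liftAlgHom c₀ (f := sQ.comp hT) hu (algebraMap T (Localization.Away c₀) (u ⊗ₜ[A] (1 : W))) = sQ.comp hT (u ⊗ₜ 1) from
        IsLocalization.Away.lift_eq (R := T) c₀ (g := (sQ.comp hT : T →+* Cb)) hu _]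
    show sQ (hT (u ⊗ₜ[A] (1 : W))) = _
    rw [show hT (u ⊗ₜ[A] (1 : W)) = θ u * φ 1 from Algebra.TensorProduct.lift_tmul _ _ _ u 1, map_one, mul_one, hsθ]
  · show e (algebraMap T (Localization.Away c₀) (x ⊗ₜ 1)) ∈ _
    have h0 : c₀ * (x ⊗ₜ 1) ∈ K := by
      refine Ideal.Quotient.eq_zero_iff_mem.1 ?_
      have := hcx x
      rw [show g x = 0 by show σ (θ x) = 0; rw [hθx, map_zero], sub_zero] at this
      rw [map_mul]
      exact this
    have h1 := Ideal.mem_map_of_mem (algebraMap T (Localization.Away c₀)) h0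
    rw [Ideal.map_map, ← IsScalarTower.algebraMap_eq, map_mul,
      Ideal.unit_mul_mem_iff_mem _ (IsLocalization.Away.algebraMap_isUnit c₀)] at h1
    have h2 := Ideal.mem_map_of_mem e.toAlgHom.toRingHom h1
    rw [Ideal.map_map, show e.toAlgHom.toRingHom.comp (algebraMap A (Localization.Away c₀)) = algebraMap A k.U from
      e.toAlgHom.comp_algebraMap] at h2
    exact h2

theorem exists_surj (h : EtPBC.IsIndEtale (A ⧸ I) Cb) (y : Cb) : ∃ (i : EtObj A Cb) (x : i.U), i.hom x = y := by
  obtain ⟨J, _, _, D, t, s, hs, hts⟩ := (IndEtLib.isIndEtale_iff (A ⧸ I) Cb).1 h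
  obtain ⟨j, z, rfl⟩ := Types.jointly_surjective_of_isColimit (isColimitOfPreserves (forget CommRingCat) hs) y
  let Q := D.obj j
  letI : Algebra (A ⧸ I) Q := (t.app j).hom.toAlgebra
  letI : Algebra A Q := ((t.app j).hom.comp (Ideal.Quotient.mk I)).toAlgebra
  haveI : IsScalarTower A (A ⧸ I) Q := IsScalarTower.of_algebraMap_eq fun _ => rfl
  haveI : Algebra.Etale (A ⧸ I) Q := (hts j).1
  obtain ⟨W, _, _, _, φ, hφ, -⟩ := HenselLib.exists_etale_lift (A := A) I Q
  let sQ : Q →ₐ[A] Cb :=
    { (s.app j).hom with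
      commutes' := fun a => (ConcreteCategory.congr_hom (hts j).2 (Ideal.Quotient.mk I a)).trans
        (IsScalarTower.algebraMap_apply A (A ⧸ I) Cb a).symm }
  obtain ⟨k, e, he⟩ := exists_obj (sQ.comp φ)
  obtain ⟨w, hw⟩ := hφ z
  exact ⟨k, e w, (AlgHom.congr_fun he w).trans (by show sQ (φ w) = _; rw [hw]; rfl)⟩

theorem exists_indEtale_lift (h : EtPBC.IsIndEtale (A ⧸ I) Cb) :
    ∃ (C : Type u) (_ : CommRing C) (_ : Algebra A C),
      EtPBC.IsIndEtale A C ∧ Nonempty ((C ⧸ I.map (algebraMap A C)) ≃ₐ[A ⧸ I] Cb) := by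
  haveI := isFiltered_etObj (A := A) (Cb := Cb)
  let D : EtObj A Cb ⥤ CommRingCat.{u} :=
    { obj := fun j => CommRingCat.of j.U
      map := fun f => CommRingCat.ofHom f.1.toRingHom }
  let C := colimit D
  let j₀ : EtObj A Cb := IsFiltered.nonempty.some
  letI : Algebra A C := ((colimit.ι D j₀).hom.comp (algebraMap A j₀.U)).toAlgebra
  have hcomm : ∀ (j : EtObj A Cb) (a : A), (colimit.ι D j).hom (algebraMap A j.U a) = algebraMap A C a := by
    intro j a
    let k := IsFiltered.max j₀ j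
    let f := IsFiltered.leftToMax j₀ j
    let g := IsFiltered.rightToMax j₀ j
    show _ = (colimit.ι D j₀).hom (algebraMap A j₀.U a)
    have e1 : (colimit.ι D k).hom (g.1 (algebraMap A j.U a)) = (colimit.ι D j).hom (algebraMap A j.U a) :=
      ConcreteCategory.congr_hom (colimit.w D g) _
    have e2 : (colimit.ι D k).hom (f.1 (algebraMap A j₀.U a)) = (colimit.ι D j₀).hom (algebraMap A j₀.U a) :=
      ConcreteCategory.congr_hom (colimit.w D f) _
    rw [← e1, ← e2, AlgHom.commutes, AlgHom.commutes]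
  let cc : Cocone D := ⟨CommRingCat.of Cb, { app := fun j => CommRingCat.ofHom j.hom.toRingHom
                                             naturality := fun i j f => by ext x; exact AlgHom.congr_fun f.2 x }⟩
  let Φ : C →ₐ[A] Cb :=
    { (colimit.desc D cc).hom with
      commutes' := fun a => (ConcreteCategory.congr_hom (colimit.ι_desc cc j₀) _).trans (j₀.hom.commutes a) }
  have hΦ : ∀ j x, Φ ((colimit.ι D j).hom x) = j.hom x := fun j x => ConcreteCategory.congr_hom (colimit.ι_desc cc j) x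
  have hind : EtPBC.IsIndEtale A C := by
    rw [IndEtLib.isIndEtale_iff]
    refine ⟨EtObj A Cb, inferInstance, inferInstance, D,
      { app := fun j => CommRingCat.ofHom (algebraMap A j.U)
        naturality := fun i j f => by ext r; exact (f.1.commutes r).symm },
      (colimit.cocone D).ι, colimit.isColimit D, fun j => ⟨?_, ?_⟩⟩
    · haveI := j.etale_U
      exact RingHom.etale_algebraMap.2 inferInstance
    · ext r
      exact hcomm j r
  have hsurj : Function.Surjective Φ := fun y => by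
    obtain ⟨i, x, rfl⟩ := exists_surj I h y
    exact ⟨(colimit.ι D i).hom x, hΦ i x⟩
  have hK : RingHom.ker Φ = I.map (algebraMap A C) := by
    refine le_antisymm (fun z hz => ?_) (Ideal.map_le_iff_le_comap.2 fun a ha => ?_)
    · obtain ⟨i, x, rfl⟩ := Concrete.colimit_exists_rep D z
      obtain ⟨k, f, hf⟩ := exists_refine I h i x ((hΦ i x).symm.trans hz)
      rw [show (colimit.ι D i) x = (colimit.ι D k).hom (f.1 x) from (ConcreteCategory.congr_hom (colimit.w D f) x).symm]
      have h2 := Ideal.mem_map_of_mem (colimit.ι D k).hom hf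
      rw [Ideal.map_map, show (colimit.ι D k).hom.comp (algebraMap A k.U) = algebraMap A C from RingHom.ext (hcomm k)] at h2
      exact h2
    · show Φ (algebraMap A C a) = 0
      rw [AlgHom.commutes, IsScalarTower.algebraMap_apply A (A ⧸ I) Cb, Ideal.Quotient.algebraMap_eq,
        Ideal.Quotient.eq_zero_iff_mem.2 ha, map_zero]
  let e : (C ⧸ I.map (algebraMap A C)) ≃ₐ[A] Cb :=
    (Ideal.quotientEquivAlgOfEq A hK.symm).trans (Ideal.quotientKerAlgEquivOfSurjective hsurj)
  exact ⟨C, inferInstance, inferInstance, hind, ⟨AlgEquiv.ofRingEquiv (f := e.toRingEquiv) fun q => by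
    obtain ⟨a, rfl⟩ := Ideal.Quotient.mk_surjective q
    exact (e.commutes a).trans (IsScalarTower.algebraMap_apply A (A ⧸ I) Cb a)⟩⟩

end Groth.Agent.IndEtQuotLib
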